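import Groth.Prelude.Def_CartDual2

/-!
# Basic facts on the dual Hopf algebra of a finite projective Hopf algebra

* `eval_bijective`, `evalEquiv`: the canonical map to the double dual is an isomorphism of bialgebras.
* `ext_of_dual`: linear forms separate the elements of a finite projective module.
* `tensor_ext_of_dual`: the forms `x ⊗ y` separate the elements of `A ⊗ A`.
* `equivOfBijective`: a bijective bialgebra map is a bialgebra isomorphism (with the instances on `D R A`).
-/

set_option autoImplicit false

universe u v w

open TensorProduct

namespace K880.Basic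

section

variable (R : Type u) [CommRing R] (A : Type v) [Ring A] [Bialgebra R A] [Module.Finite R A]
  [Module.Projective R A]

theorem eval_bijective : Function.Bijective (CartDual.eval R A) := by
  have h := Module.bijective_dual_eval R A
  constructor
  · intro a b hab
    apply h.1
    ext x
    have := congrArg (fun z : CartDual.D R (CartDual.D R A) => z (WithConv.toConv x)) hab
    simpa using this
  · intro z
    obtain ⟨a, ha⟩ := h.2 (z.ofConv ∘ₗ (CartDual.toDual R A).symm.toLinearMap)
    refine ⟨a, ?_⟩
    apply WithConv.ext
    apply LinearMap.ext
    intro x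
    have := LinearMap.congr_fun ha x.ofConv
    exact this

/-- The canonical isomorphism to the double dual. -/
noncomputable def evalEquiv : A ≃ₐc[R] CartDual.D R (CartDual.D R A) :=
  BialgEquiv.ofBijective (R := R) (A := A) (B := CartDual.D R (CartDual.D R A)) (CartDual.eval R A)
    (eval_bijective R A)

theorem evalEquiv_apply (a : A) : evalEquiv R A a = CartDual.eval R A a := rfl

theorem eval_evalEquiv_symm (z : CartDual.D R (CartDual.D R A)) :
    CartDual.eval R A ((evalEquiv R A).symm z) = z :=
  (evalEquiv R A).apply_symm_apply z

theorem apply_evalEquiv_symm (z : CartDual.D R (CartDual.D R A)) (x : CartDual.D R A) :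
    x ((evalEquiv R A).symm z) = z x :=
  congrArg (fun z : CartDual.D R (CartDual.D R A) => z x) (eval_evalEquiv_symm R A z)

end

section

variable {R : Type u} [CommRing R] {M : Type v} [AddCommGroup M] [Module R M] [Module.Projective R M]

/-- Linear forms separate the elements of a projective module. -/
theorem eq_of_forall_dual_apply_eq {a b : M} (h : ∀ x : M →ₗ[R] R, x a = x b) : a = b := by
  rw [← sub_eq_zero, ← Module.forall_dual_apply_eq_zero_iff R]
  intro x
  rw [map_sub, h x, sub_self]

theorem ext_of_dual {a b : M} (h : ∀ x : CartDual.D R M, x a = x b) : a = b :=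
  eq_of_forall_dual_apply_eq fun x => h (WithConv.toConv x)

end

section

variable {R : Type u} [CommRing R] {M : Type v} [AddCommGroup M] [Module R M] [Module.Finite R M]
  [Module.Projective R M] {N : Type w} [AddCommGroup N] [Module R N] [Module.Finite R N]
  [Module.Projective R N]

/-- The linear forms `x ⊗ y` separate the elements of `M ⊗ N`. -/
theorem tensor_ext_of_dual {z z' : M ⊗[R] N}
    (h : ∀ (x : M →ₗ[R] R) (y : N →ₗ[R] R),
      LinearMap.mul' R R (TensorProduct.map x y z) = LinearMap.mul' R R (TensorProduct.map x y z')) :
    z = z' := by
  apply eq_of_forall_dual_apply_eq (R := R)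
  intro w
  obtain ⟨t, rfl⟩ := (CartDual.dualTensorEquiv R M N).surjective w
  induction t using TensorProduct.induction_on with
  | zero => simp
  | add t t' ht ht' => rw [map_add, LinearMap.add_apply, LinearMap.add_apply, ht, ht']
  | tmul x y =>
    have key : CartDual.dualTensorEquiv R M N (x ⊗ₜ y) = LinearMap.mul' R R ∘ₗ TensorProduct.map x y := by
      apply TensorProduct.ext'
      intro m n
      rw [CartDual.dualTensorEquiv_tmul]
      simp
    rw [key]
    exact h x y

end

end K880.Basic
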